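import Groth.Agent.Lib.BaseChange.AlgClosedIn
import Mathlib

/-!
# Algebras of small dimension over a big field are Jacobson
-/

set_option autoImplicit false
universe u

open CategoryTheory CategoryTheory.Limits AlgebraicGeometry TensorProduct

namespace GrothLib.BigFieldJac5

section Alg

variable {K : Type u} [Field K]

/-- A field extension of dimension smaller than the cardinality of the base is algebraic. -/
theorem isAlgebraic_of_rank_lt (L : Type u) [Field L] [Algebra K L]
    (h : Module.rank K L < Cardinal.mk K) : Algebra.IsAlgebraic K L := by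
  refine ⟨fun x => by_contra fun hx => not_le.2 h ?_⟩
  have h2 := (show Transcendental K x from hx).linearIndependent_sub_inv.cardinal_le_rank
  exact h2

variable (R : Type u) [CommRing R] [Algebra K R]

theorem isAlgebraic_quotient (h : Module.rank K R < Cardinal.mk K) (M : Ideal R) [M.IsMaximal] :
    Algebra.IsAlgebraic K (R ⧸ M) := by
  letI := Ideal.Quotient.field M
  exact isAlgebraic_of_rank_lt (R ⧸ M) ((LinearMap.rank_le_of_surjective
    (Ideal.Quotient.mkₐ K M).toLinearMap Ideal.Quotient.mk_surjective).trans_lt h)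

/-- An algebra of dimension smaller than the cardinality of the base field is a Jacobson ring. -/
theorem isJacobsonRing_of_rank_lt (h0 : Cardinal.aleph0 < Cardinal.mk K)
    (h : Module.rank K R < Cardinal.mk K) : IsJacobsonRing R := by
  refine isJacobsonRing_iff_prime_eq.2 fun P hP => le_antisymm (fun f hf => ?_) Ideal.le_jacobson
  by_contra hfP
  let D := R ⧸ P
  let g : D := Ideal.Quotient.mk P f
  have hg : g ≠ 0 := fun h => hfP (Ideal.Quotient.eq_zero_iff_mem.1 h)
  let S := Localization.Away g
  have hnt : Nontrivial S := by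
    refine not_subsingleton_iff_nontrivial.1 ?_
    rw [IsLocalization.subsingleton_iff (S := S) (M := Submonoid.powers g)]
    rintro ⟨n, hn⟩
    exact hg (eq_zero_of_pow_eq_zero (R := D) (by simpa using hn))
  obtain ⟨M, hM⟩ := Ideal.exists_maximal S
  letI : Field (S ⧸ M) := Ideal.Quotient.field M
  let φ : R →ₐ[K] S ⧸ M :=
    (Ideal.Quotient.mkₐ K M).comp ((IsScalarTower.toAlgHom K D S).comp (Ideal.Quotient.mkₐ K P))
  have halg : Algebra.IsAlgebraic K (S ⧸ M) := by
    let u' : S := IsLocalization.Away.invSelf g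
    let a : (ℕ →₀ R) →ₗ[K] S ⧸ M :=
      Finsupp.lsum K fun n => (LinearMap.mulRight K ((Ideal.Quotient.mk M u') ^ n)).comp φ.toLinearMap
    have ha : Function.Surjective a := by
      intro y
      obtain ⟨s, rfl⟩ := Ideal.Quotient.mk_surjective y
      obtain ⟨⟨d, ⟨_, n, rfl⟩⟩, hd⟩ := IsLocalization.surj (Submonoid.powers g) s
      obtain ⟨r, rfl⟩ := Ideal.Quotient.mk_surjective d
      refine ⟨Finsupp.single n r, ?_⟩
      simp only [a, Finsupp.lsum_single, LinearMap.comp_apply, LinearMap.mulRight_apply]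
      change Ideal.Quotient.mk M (algebraMap D S (Ideal.Quotient.mk P r)) * _ = _
      rw [← map_pow, ← map_mul, ← hd]
      congr 1
      rw [mul_assoc]
      simp only [map_pow]
      rw [← mul_pow, IsLocalization.Away.mul_invSelf, one_pow, mul_one]
    refine isAlgebraic_of_rank_lt _ ((LinearMap.rank_le_of_surjective a ha).trans_lt ?_)
    rw [rank_finsupp]
    simpa using Cardinal.mul_lt_of_lt h0.le h0 h
  have hi : φ.toRingHom.IsIntegral := fun y => by
    obtain ⟨p, hp, hp'⟩ := Algebra.IsIntegral.isIntegral (R := K) y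
    refine ⟨p.map (algebraMap K R), hp.map _, ?_⟩
    rw [Polynomial.eval₂_map]
    convert! hp' using 2
  have hmax : (Ideal.comap φ.toRingHom (⊥ : Ideal (S ⧸ M))).IsMaximal :=
    Ideal.isMaximal_comap_of_isIntegral_of_isMaximal' φ.toRingHom hi ⊥
  have hle : P ≤ Ideal.comap φ.toRingHom (⊥ : Ideal (S ⧸ M)) := fun p hp => by
    change Ideal.Quotient.mk M (algebraMap D S (Ideal.Quotient.mk P p)) = 0
    rw [Ideal.Quotient.eq_zero_iff_mem.2 hp, map_zero, map_zero]
  have hfm := Ideal.mem_sInf.1 hf ⟨hle, hmax⟩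
  exact hM.ne_top (M.eq_top_of_isUnit_mem (Ideal.Quotient.eq_zero_iff_mem.1 hfm)
    (IsLocalization.map_units S (⟨g, 1, pow_one g⟩ : Submonoid.powers g)))

end Alg

/-- The residue field at the image of a `K`-algebra point is algebraic. -/
theorem isAlgebraic_residueField_of_point (K : Type u) [Field K] (Y : Scheme.{u})
    [Y.Over (Spec (CommRingCat.of K))] (L : Type u) [Field L] [Algebra K L] [Algebra.IsAlgebraic K L]
    (s : Spec (CommRingCat.of L) ⟶ Y)
    (hs : s ≫ (Y ↘ Spec (CommRingCat.of K)) = Spec.map (CommRingCat.ofHom (algebraMap K L))) :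
    letI := Curv2.resAlgebra K Y (s (IsLocalRing.closedPoint L))
    Algebra.IsAlgebraic K (Y.residueField (s (IsLocalRing.closedPoint L))) := by
  have e := Scheme.descResidueField_stalkClosedPointTo_fromSpecResidueField L Y s
  generalize Y.descResidueField (Scheme.stalkClosedPointTo s) = φ at e
  generalize s (IsLocalRing.closedPoint L) = x at φ e ⊢
  letI := Curv2.resAlgebra K Y x
  rw [← e, Category.assoc, GrothLib.BaseChange.fromSpecResidueField_over, ← Spec.map_comp] at hs
  have h : φ.hom.comp (Curv2.resMap K Y x) = algebraMap K L :=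
    congrArg CommRingCat.Hom.hom (Spec.map_injective hs)
  let ψ : Y.residueField x →ₐ[K] L := { φ.hom with commutes' := fun r => congr($h r) }
  exact Algebra.IsAlgebraic.of_injective ψ ψ.toRingHom.injective

/-- The chart on the base change of an affine scheme. -/
theorem exists_chart {k : Type u} [Field k] {Z : Scheme.{u}} [IsAffine Z]
    (z : Z ⟶ Spec (CommRingCat.of k)) (K : Type u) [Field K] [Algebra k K] :
    ∃ (R : Type u) (_ : CommRing R) (_ : Algebra K R)
      (e : Spec (CommRingCat.of R) ≅ pullback z (Spec.map (CommRingCat.ofHom (algebraMap k K)))),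
      e.hom ≫ pullback.snd _ _ = Spec.map (CommRingCat.ofHom (algebraMap K R)) ∧
        Module.rank K R ≤ Cardinal.mk Γ(Z, ⊤) := by
  obtain ⟨φ, hφ⟩ := Spec.map_surjective (Z.isoSpec.inv ≫ z)
  letI : Algebra k Γ(Z, ⊤) := φ.hom.toAlgebra
  refine ⟨K ⊗[k] Γ(Z, ⊤), inferInstance, inferInstance,
    (pullbackSpecIso k K Γ(Z, ⊤)).symm ≪≫ pullbackSymmetry _ _ ≪≫
      asIso (pullback.map _ _ z _ Z.isoSpec.inv (𝟙 _) (𝟙 _)
        (by rw [Category.comp_id, ← hφ]; rfl) (by simp)), ?_, ?_⟩
  · simp only [Iso.trans_hom, Iso.symm_hom, asIso_hom, pullback.map, Category.assoc,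
      pullback.lift_snd, Category.comp_id, pullbackSymmetry_hom_comp_snd]
    exact pullbackSpecIso_inv_fst k K Γ(Z, ⊤)
  · rw [Module.rank_baseChange]
    simpa using rank_le_card k Γ(Z, ⊤)

/-- Base change to a big enough field is Jacobson with algebraic residue fields at closed points. -/
theorem exists_cardinal_baseChange_jacobson (k : Type u) [Field k] (X : Scheme.{u})
    [X.Over (Spec (CommRingCat.of k))] :
    ∃ κ : Cardinal.{u}, ∀ (K : Type u) [Field K] [Algebra k K], κ ≤ Cardinal.mk K →
      JacobsonSpace ↥(Curv2.bc k X K) ∧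
        ∀ x : ↥(Curv2.bc k X K), IsClosed ({x} : Set ↥(Curv2.bc k X K)) →
          letI : (Curv2.bc k X K).Over (Spec (CommRingCat.of K)) := ⟨Curv2.bcSnd k X K⟩
          letI := Curv2.resAlgebra K (Curv2.bc k X K) x
          Algebra.IsAlgebraic K ((Curv2.bc k X K).residueField x) := by
  refine ⟨Order.succ (max Cardinal.aleph0 (Cardinal.mk (Σ i, Γ(X.affineCover.X i, ⊤)))),
    fun K _ _ hκ => ?_⟩
  have hlt := (Order.lt_succ _).trans_le hκ
  let C := Scheme.Pullback.openCoverOfLeft X.affineCover (X ↘ Spec (CommRingCat.of k))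
    (Spec.map (CommRingCat.ofHom (algebraMap k K)))
  have key : ∀ i, ∃ (R : Type u) (_ : CommRing R) (_ : Algebra K R)
      (j : Spec (CommRingCat.of R) ⟶ Curv2.bc k X K), IsOpenImmersion j ∧
      Set.range j = Set.range (C.f i) ∧
      j ≫ Curv2.bcSnd k X K = Spec.map (CommRingCat.ofHom (algebraMap K R)) ∧
      Module.rank K R < Cardinal.mk K := by
    intro i
    obtain ⟨R, _, _, e, he, hr⟩ := exists_chart (X.affineCover.f i ≫ (X ↘ Spec (CommRingCat.of k))) K
    let c : pullback (X.affineCover.f i ≫ (X ↘ Spec (CommRingCat.of k)))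
        (Spec.map (CommRingCat.ofHom (algebraMap k K))) ⟶ Curv2.bc k X K := C.f i
    haveI hc : IsOpenImmersion c := C.map_prop i
    refine ⟨R, inferInstance, inferInstance, e.hom ≫ c, inferInstance, ?_, ?_, ?_⟩
    · change Set.range (c.base ∘ e.hom.base) = _
      exact Function.Surjective.range_comp e.hom.surjective c.base
    · rw [Category.assoc, ← he]
      congr 1
      exact (pullback.lift_snd _ _ _).trans (Category.comp_id _)
    · refine lt_of_le_of_lt (hr.trans ?_) ((le_max_right _ _).trans_lt hlt)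
      exact Cardinal.mk_le_of_injective (f := fun a => (⟨i, a⟩ : Σ i, Γ(X.affineCover.X i, ⊤)))
        fun a b h => by simpa using h
  refine ⟨?_, fun x hx => ?_⟩
  · have hU : TopologicalSpace.IsOpenCover fun i => (C.f i).opensRange := C.isOpenCover_opensRange
    refine hU.jacobsonSpace_iff.2 fun i => ?_
    obtain ⟨R, _, _, j, hj, hrange, -, hR⟩ := key i
    haveI := isJacobsonRing_of_rank_lt R ((le_max_left _ _).trans_lt hlt) hR
    haveI : JacobsonSpace ↥(Spec (CommRingCat.of R)) :=
      inferInstanceAs (JacobsonSpace (PrimeSpectrum R))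
    have heq : j.opensRange = (C.f i).opensRange := TopologicalSpace.Opens.ext hrange
    rw [← heq]
    exact JacobsonSpace.of_isOpenEmbedding
      (f := (j.isoOpensRange.inv : _ → ↥(Spec (CommRingCat.of R))))
      j.isoOpensRange.inv.isOpenEmbedding
  · letI : (Curv2.bc k X K).Over (Spec (CommRingCat.of K)) := ⟨Curv2.bcSnd k X K⟩
    obtain ⟨i, y, hy⟩ := C.exists_eq x
    obtain ⟨R, _, _, j, hj, hrange, hsnd, hR⟩ := key i
    have : x ∈ Set.range j := hrange ▸ ⟨y, hy⟩
    obtain ⟨y, rfl⟩ := this
    have hy : IsClosed ({y} : Set (Spec (CommRingCat.of R))) := by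
      convert! hx.preimage j.continuous
      ext z
      exact j.isOpenEmbedding.injective.eq_iff.symm
    haveI : y.asIdeal.IsMaximal := (PrimeSpectrum.isClosed_singleton_iff_isMaximal y).1 hy
    letI := Ideal.Quotient.field y.asIdeal
    haveI := isAlgebraic_quotient R hR y.asIdeal
    let q : Spec (CommRingCat.of (R ⧸ y.asIdeal)) ⟶ Spec (CommRingCat.of R) :=
      Spec.map (CommRingCat.ofHom (Ideal.Quotient.mk y.asIdeal))
    have hq : q (IsLocalRing.closedPoint (R ⧸ y.asIdeal)) = y := by
      refine PrimeSpectrum.ext ?_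
      change Ideal.comap (Ideal.Quotient.mk y.asIdeal) (IsLocalRing.maximalIdeal (R ⧸ y.asIdeal)) = _
      rw [IsLocalRing.maximalIdeal_eq_bot, ← RingHom.ker_eq_comap_bot, Ideal.mk_ker]
    have h := isAlgebraic_residueField_of_point K (Curv2.bc k X K) (R ⧸ y.asIdeal) (q ≫ j)
      (by
        change (q ≫ j) ≫ Curv2.bcSnd k X K = _
        rw [Category.assoc, hsnd, ← Spec.map_comp, ← CommRingCat.ofHom_comp,
          Ideal.Quotient.mk_comp_algebraMap])
    rw [Scheme.Hom.comp_apply, hq] at h
    exact h

end GrothLib.BigFieldJac5
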